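import Cfsg.Agent.Coset.O73.Classical
import Cfsg.Agent.Coset.Fi22.Order

/-! `⟨b, …, i⟩` in `Cfsg.Spor.Fi22` is `PΩ(7, 3)`. -/

set_option autoImplicit false
set_option maxRecDepth 100000

namespace CfsgLib.Coset.O73

theorem nonempty_in_Fi22 : Nonempty ((genBy Fi22.Lg [1, 2, 3, 4, 5, 6, 7, 8] :
    Subgroup Cfsg.Spor.Fi22) ≃* Cfsg.POmega (ZMod 3) (Cfsg.quadFormOdd 3 (ZMod 3))) := by
  obtain ⟨e⟩ := nonempty_equiv
  have := Fi22.card_le.1
  have := card_le.1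
  have hL : (lv Fi22.Lg [1, 2, 3, 4, 5, 6, 7, 8]).length = 8 := by simp [lv]
  have hrels : ∀ w ∈ rels, ev (lv Fi22.Lg [1, 2, 3, 4, 5, 6, 7, 8]) w = 1 := by
    intro w hw
    rw [ev_lv, Fi22.len_Lg]
    have h : (rels.all fun w => Fi22.rels.contains (w.map fun l => [1, 2, 3, 4, 5, 6, 7, 8].getD l 9)) =
        true := by decide +kernel
    exact Fi22.ev_rels _ (List.contains_iff_mem.mp (List.all_eq_true.mp h w hw))
  have hT : Nat.card (genBy Fi22.Lg [1, 2, 3, 4, 5, 6, 7, 8]) = 4585351680 := by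
    have h := Subgroup.card_mul_index (genBy Fi22.Lg [1, 2, 3, 4, 5, 6, 7, 8])
    rw [Fi22.index_T, Fi22.card_and_injective.1] at h
    omega
  exact ⟨(numEquiv hL hrels (by rw [card_and_injective.1]; exact hT.ge)).symm.trans e⟩

end CfsgLib.Coset.O73
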