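import Cfsg.Agent.Coset.O73.Simple
import Cfsg.Agent.Coset.O73.VecData
import Cfsg.Agent.Quad.POmega

/-! The group presented by the relators of `⟨b, …, i⟩` is `PΩ(7, 3)`. -/

set_option autoImplicit false
set_option maxRecDepth 100000
set_option Elab.async false

namespace CfsgLib.Coset.O73

open CfsgLib.Quad QuadraticMap
open scoped commutatorElement

local instance : Fact (Nat.Prime 3) := ⟨Nat.prime_three⟩

/-- The space. -/
abbrev V : Type := Unit ⊕ (Fin 3 ⊕ Fin 3) → ZMod 3

/-- The form. -/
abbrev Q : QuadraticForm (ZMod 3) V := oddQ 3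

/-- The position of a coordinate. -/
def pos : Unit ⊕ (Fin 3 ⊕ Fin 3) → Nat
  | .inl _ => 0
  | .inr (.inl i) => 1 + i.val
  | .inr (.inr i) => 4 + i.val

/-- The `i`-th vector. -/
def dec (i : Nat) : V := fun k => ((i / 3 ^ pos k % 3 : Nat) : ZMod 3)

/-- The number of a vector. -/
def encN (x : V) : Nat :=
  (x (.inl ())).val + 3 * (x (.inr (.inl 0))).val + 9 * (x (.inr (.inl 1))).val +
    27 * (x (.inr (.inl 2))).val + 81 * (x (.inr (.inr 0))).val + 243 * (x (.inr (.inr 1))).val +
    729 * (x (.inr (.inr 2))).val

theorem encN_lt (x : V) : encN x < 2187 := by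
  have h : ∀ k, (x k).val < 3 := fun k => ZMod.val_lt _
  have := h (.inl ()); have := h (.inr (.inl 0)); have := h (.inr (.inl 1)); have := h (.inr (.inl 2))
  have := h (.inr (.inr 0)); have := h (.inr (.inr 1)); have := h (.inr (.inr 2))
  unfold encN; omega

theorem encN_inj {x y : V} (he : encN x = encN y) : x = y := by
  have h : ∀ (z : V) k, (z k).val < 3 := fun z k => ZMod.val_lt _
  have := h x (.inl ()); have := h x (.inr (.inl 0)); have := h x (.inr (.inl 1))
  have := h x (.inr (.inl 2)); have := h x (.inr (.inr 0)); have := h x (.inr (.inr 1))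
  have := h x (.inr (.inr 2)); have := h y (.inl ()); have := h y (.inr (.inl 0))
  have := h y (.inr (.inl 1)); have := h y (.inr (.inl 2)); have := h y (.inr (.inr 0))
  have := h y (.inr (.inr 1)); have := h y (.inr (.inr 2))
  unfold encN at he
  funext k
  apply ZMod.val_injective 3
  rcases k with ⟨⟨⟩⟩ | i | i
  · show (x (Sum.inl ())).val = (y (Sum.inl ())).val
    omega
  · fin_cases i <;> simp <;> omega
  · fin_cases i <;> simp <;> omega

/-- Vectors as numbers. -/
noncomputable def enc : V ≃ Fin 2187 :=
  Equiv.ofBijective (fun x => ⟨encN x, encN_lt x⟩) ((Fintype.bijective_iff_injective_and_card _).mpr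
    ⟨fun _ _ h => encN_inj (congrArg Fin.val h), by simp [ZMod.card]⟩)

theorem enc_val (x : V) : (enc x : Nat) = encN x := rfl

/-- The root vector of a generator. -/
def rv (l : Nat) : V := fun k => (((Vec.vecs.getD l []).getD (pos k) 0 : Nat) : ZMod 3)

/-- Computable form of the polar form. -/
def pol (x v : V) : ZMod 3 :=
  2 * x (.inl ()) * v (.inl ()) +
    (x (.inr (.inl 0)) * v (.inr (.inr 0)) + x (.inr (.inr 0)) * v (.inr (.inl 0))) +
    (x (.inr (.inl 1)) * v (.inr (.inr 1)) + x (.inr (.inr 1)) * v (.inr (.inl 1))) +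
    (x (.inr (.inl 2)) * v (.inr (.inr 2)) + x (.inr (.inr 2)) * v (.inr (.inl 2)))

theorem polar_eq (x v : V) : polar Q x v = pol x v := by
  simp [polar, Q, oddQ_coe, Cfsg.quadFormOdd, Fin.sum_univ_three, pol]
  ring

/-- Computable form of minus a reflection. -/
def act (v x : V) : V := fun k => -(x k + pol x v * v k)

theorem rv_norm : ∀ l < 8, Q (rv l) = 2 := by
  intro l hl
  rw [show Q (rv l) = Cfsg.quadFormOdd 3 (ZMod 3) (rv l) from congrFun (oddQ_coe 3) _]
  interval_cases l <;> decide +kernel

/-- The image of a generator. -/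
noncomputable def img (l : Nat) : oGroup Q := negIso Q * refl Q (rv l)

theorem img_apply {l : Nat} (hl : l < 8) (x : V) : (img l).1 x = act (rv l) x := by
  change -((refl Q (rv l)).1 x) = _
  rw [refl_apply, rv_norm l hl, polar_eq]
  funext k
  simp only [Pi.neg_apply, Pi.add_apply, Pi.smul_apply, smul_eq_mul, act]
  rw [show -((2 : ZMod 3))⁻¹ = 1 from by decide +kernel, one_mul]

theorem table_ok0 : allBelow 12 2187 (fun i =>
    Nat.beq (encN (act (rv 0) (dec i))) (tget Vec.Tb i 0)) = true := by decide +kernel

theorem table_ok1 : allBelow 12 2187 (fun i =>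
    Nat.beq (encN (act (rv 1) (dec i))) (tget Vec.Tb i 1)) = true := by decide +kernel

theorem table_ok2 : allBelow 12 2187 (fun i =>
    Nat.beq (encN (act (rv 2) (dec i))) (tget Vec.Tb i 2)) = true := by decide +kernel

theorem table_ok3 : allBelow 12 2187 (fun i =>
    Nat.beq (encN (act (rv 3) (dec i))) (tget Vec.Tb i 3)) = true := by decide +kernel

theorem table_ok4 : allBelow 12 2187 (fun i =>
    Nat.beq (encN (act (rv 4) (dec i))) (tget Vec.Tb i 4)) = true := by decide +kernel

theorem table_ok5 : allBelow 12 2187 (fun i =>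
    Nat.beq (encN (act (rv 5) (dec i))) (tget Vec.Tb i 5)) = true := by decide +kernel

theorem table_ok6 : allBelow 12 2187 (fun i =>
    Nat.beq (encN (act (rv 6) (dec i))) (tget Vec.Tb i 6)) = true := by decide +kernel

theorem table_ok7 : allBelow 12 2187 (fun i =>
    Nat.beq (encN (act (rv 7) (dec i))) (tget Vec.Tb i 7)) = true := by decide +kernel

theorem table_ok : ∀ l < 8, allBelow 12 2187 (fun i =>
    Nat.beq (encN (act (rv l) (dec i))) (tget Vec.Tb i l)) = true := by
  intro l hl
  interval_cases l
  · exact table_ok0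
  · exact table_ok1
  · exact table_ok2
  · exact table_ok3
  · exact table_ok4
  · exact table_ok5
  · exact table_ok6
  · exact table_ok7

theorem dec_encN (x : V) : dec (encN x) = x := by
  have hlt := encN_lt x
  have h : ∀ i : Nat, i < 2187 → encN (dec i) = i := by
    have hd : allBelow 12 2187 (fun i => Nat.beq (encN (dec i)) i) = true := by decide +kernel
    exact fun i hi => Nat.eq_of_beq_eq_true (of_allBelow hd i hi)
  exact encN_inj (h _ hlt)

theorem img_table {l : Nat} (hl : l < 8) (x : V) :
    encN ((img l).1 x) = tget Vec.Tb (encN x) l := by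
  rw [img_apply hl, ← Nat.eq_of_beq_eq_true (of_allBelow (table_ok l hl) _ (encN_lt x)), dec_encN]

/-- The images. -/
noncomputable def Li : List (oGroup Q) := (List.range 8).map img

theorem len_Li : (Li).length = 8 := by simp [Li]

theorem fl_Li {l : Nat} (hl : l < 8) : fl Li l = img l := by
  simp [fl, Li, List.getD_eq_getElem?_getD, hl]

theorem img_inv (l : Nat) : (img l)⁻¹ = img l := by
  refine inv_eq_of_mul_eq_one_right (Subtype.ext (LinearEquiv.ext fun x => ?_))
  change -((refl Q (rv l)).1 (-((refl Q (rv l)).1 x))) = x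
  rw [map_neg, neg_neg]
  exact LinearEquiv.congr_fun (congrArg Subtype.val (refl_mul_self (Q := Q) (rv l))) x

/-- The permutations of the vectors. -/
noncomputable def ψ : oGroup Q →* Equiv.Perm (Fin 2187) where
  toFun g := enc.permCongr g.1.toEquiv
  map_one' := by ext; simp
  map_mul' g h := by ext; simp

theorem ψ_injective : Function.Injective ψ := by
  intro g h e
  refine Subtype.ext (LinearEquiv.ext fun x => ?_)
  have := Equiv.congr_fun e (enc x)
  simpa [ψ] using this

theorem matches_ψ : Matches Li ψ Vec.Tb := by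
  intro l hl i
  have hl' : l < 8 := len_Li ▸ hl
  rw [fl_Li hl', ← map_inv, img_inv]
  obtain ⟨x, rfl⟩ := enc.surjective i
  simpa [ψ, enc_val] using img_table hl' x

theorem vec_rels0 : belowBlock 9 2187 (relsAt Vec.Tb rels) 0 = true := by decide +kernel

theorem vec_rels1 : belowBlock 9 2187 (relsAt Vec.Tb rels) 1 = true := by decide +kernel

theorem vec_rels2 : belowBlock 9 2187 (relsAt Vec.Tb rels) 2 = true := by decide +kernel

theorem vec_rels3 : belowBlock 9 2187 (relsAt Vec.Tb rels) 3 = true := by decide +kernel

theorem vec_rels4 : belowBlock 9 2187 (relsAt Vec.Tb rels) 4 = true := by decide +kernel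

theorem vec_rels5 : belowBlock 9 2187 (relsAt Vec.Tb rels) 5 = true := by decide +kernel

theorem vec_rels6 : belowBlock 9 2187 (relsAt Vec.Tb rels) 6 = true := by decide +kernel

theorem vec_rels7 : belowBlock 9 2187 (relsAt Vec.Tb rels) 7 = true := by decide +kernel

theorem img_rels : ∀ w ∈ rels, ev Li w = 1 := by
  intro w hw
  apply ψ_injective
  rw [map_one]
  have hc : checkRels 2187 (9 + 3) Vec.Tb rels = true :=
    checkRels_of_blocks (by decide +kernel) fun b hb => by
      have : b < 8 := hb
      interval_cases b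
      · exact vec_rels0
      · exact vec_rels1
      · exact vec_rels2
      · exact vec_rels3
      · exact vec_rels4
      · exact vec_rels5
      · exact vec_rels6
      · exact vec_rels7

  have hl : ∀ w ∈ rels, ∀ l ∈ w, l < 8 := by decide +kernel
  refine Equiv.ext fun i => (matches_ψ.fix_iff (fun l h => len_Li.symm ▸ hl w hw l h)).mpr ?_
  exact Nat.eq_of_beq_eq_true (allList_iff.mp (of_allBelow hc i i.2) w hw)

/-- The map to the orthogonal group. -/
noncomputable def φ : P →* oGroup Q := numHom len_Li img_rels

theorem φ_injective : Function.Injective φ := by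
  haveI := isSimple
  rcases (φ.normal_ker).eq_bot_or_eq_top with h | h
  · exact (MonoidHom.ker_eq_bot_iff φ).mp h
  · exfalso
    have h1 : φ (fl Lp 0) = 1 := MonoidHom.mem_ker.mp (h ▸ Subgroup.mem_top (fl Lp 0))
    rw [φ, numHom_fl, fl_Li (by norm_num)] at h1
    have h2 := img_table (l := 0) (by norm_num) (dec 9)
    rw [h1] at h2
    have h3 : Nat.beq (encN (dec 9)) (tget Vec.Tb (encN (dec 9)) 0) = false := by decide +kernel
    rw [show ((1 : oGroup Q).1 (dec 9)) = dec 9 from rfl] at h2
    rw [← h2] at h3
    simp at h3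

theorem commutator_P : commutator P = ⊤ := by
  haveI := isSimple
  rcases (inferInstance : (commutator P).Normal).eq_bot_or_eq_top with h | h
  · exfalso
    letI : CommGroup P := { (inferInstance : Group P) with
      mul_comm := fun x y => by
        have : ⁅x, y⁆ ∈ commutator P := Subgroup.commutator_mem_commutator (Subgroup.mem_top x) (Subgroup.mem_top y)
        rw [h, Subgroup.mem_bot, commutatorElement_eq_one_iff_mul_comm] at this
        exact this }
    have := card_le.1
    have hp := (IsSimpleGroup.prime_card (α := P))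
    rw [card_and_injective.1] at hp
    exact (Nat.not_prime_of_dvd_of_lt (m := 2) (by norm_num) le_rfl (by norm_num)) hp
  · exact h

theorem range_le : φ.range ≤ commutator (oGroup Q) := by
  rw [MonoidHom.range_eq_map, ← commutator_P, commutator_def, commutator_def, Subgroup.map_commutator]
  exact Subgroup.commutator_mono le_top le_top

theorem two_ne : (2 : ZMod 3) ≠ 0 := by decide +kernel

theorem finrank_V : Module.finrank (ZMod 3) V = 7 := by simp

theorem negIso_notMem : negIso Q ∉ commutator (oGroup Q) :=
  negIso_notMem_of_odd two_ne (by rw [finrank_V]; decide)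

theorem card_omega : Nat.card (↥(commutator (oGroup Q)) ⧸
    Subgroup.center ↥(commutator (oGroup Q))) = 4585351680 := by
  have hO : Nat.card (oGroup Q) = 2 * 9170703360 := by
    have h := card_oGroup_odd (F := ZMod 3) (q := 3) (by simp) two_ne 3
    norm_num [Finset.prod_range_succ] at h
    exact_mod_cast h
  have h := (card_pOmega (oddQ_nondeg two_ne 3) (by rw [finrank_V]; norm_num) _ hO).2.1 two_ne
    negIso_notMem
  change 2 * _ = 9170703360 at h
  exact Nat.eq_of_mul_eq_mul_left (by norm_num : 0 < 2) h

/-- The isomorphism. -/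
theorem nonempty_equiv :
    Nonempty (P ≃* Cfsg.POmega (ZMod 3) (Cfsg.quadFormOdd 3 (ZMod 3))) := by
  rw [← oddQ_coe 3]
  have := card_le.1
  let f : P →* ↥(commutator (oGroup Q)) ⧸ Subgroup.center ↥(commutator (oGroup Q)) :=
    (QuotientGroup.mk' _).comp (φ.codRestrict _ fun x => range_le ⟨x, rfl⟩)
  have hc : Subgroup.center ↥(commutator (oGroup Q)) = ⊥ := Subgroup.card_eq_one.mp
    (card_center_omega_one (oddQ_nondeg two_ne 3) (by rw [finrank_V]; norm_num) (Or.inr negIso_notMem))
  have hf : Function.Injective f := by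
    intro a b e
    have e' := QuotientGroup.eq.mp e
    rw [hc, Subgroup.mem_bot, inv_mul_eq_one] at e'
    exact φ_injective (congrArg Subtype.val e')
  have hb : Function.Bijective f := by
    have : Finite (↥(commutator (oGroup Q)) ⧸ Subgroup.center ↥(commutator (oGroup Q))) :=
      Nat.finite_of_card_ne_zero (by rw [card_omega]; norm_num)
    exact hf.bijective_of_nat_card_le (by rw [card_omega, card_and_injective.1])
  exact ⟨(MulEquiv.ofBijective f hb).trans (pOmegaEquiv Q).symm⟩

end CfsgLib.Coset.O73
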