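import Cfsg.Agent.Coset.O73.Data
import Cfsg.Agent.Coset.O73.ColData
import Cfsg.Agent.Coset.Table

set_option autoImplicit false
set_option maxRecDepth 100000

namespace CfsgLib.Coset.O73.Col

/-- The relators with the collapsing word. -/
def crels : List (List Nat) := rels ++ [u]

theorem hR : checkRules crels subs R = true := by decide +kernel
theorem hdefs : checkDefs E 8 7 92 = true := by decide +kernel
theorem hsteps : checkChunks E id R 8 3 92 5 C = true := by decide +kernel
theorem htable : checkTable E id (92 + chunk * 5) 1 8 1 3 Rep Ref Tb = true := by decide +kernel

end CfsgLib.Coset.O73.Col
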