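import Cfsg.Agent.Coset.Blocks
import Cfsg.Agent.Coset.O73.Data
import Cfsg.Agent.Coset.O73.TopData

set_option autoImplicit false
set_option maxRecDepth 100000
set_option Elab.async false

namespace CfsgLib.Coset.O73.Top

theorem hrels4 : belowBlock 9 3159 (relsAt Tb rels) 4 = true := by decide +kernel
theorem hrels5 : belowBlock 9 3159 (relsAt Tb rels) 5 = true := by decide +kernel
theorem hrels6 : belowBlock 9 3159 (relsAt Tb rels) 6 = true := by decide +kernel
theorem hrels7 : belowBlock 9 3159 (relsAt Tb rels) 7 = true := by decide +kernel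

end CfsgLib.Coset.O73.Top
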