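import Cfsg.Agent.Coset.Blocks
import Cfsg.Agent.Coset.O73.Data
import Cfsg.Agent.Coset.O73.TopData

set_option autoImplicit false
set_option maxRecDepth 100000
set_option Elab.async false

namespace CfsgLib.Coset.O73.Top

theorem hsteps0 : belowBlock 7 360 (chunkAt E id R 8 7559 C) 0 = true := by decide +kernel
theorem hsteps1 : belowBlock 7 360 (chunkAt E id R 8 7559 C) 1 = true := by decide +kernel
theorem hsteps2 : belowBlock 7 360 (chunkAt E id R 8 7559 C) 2 = true := by decide +kernel
theorem hsteps3 : belowBlock 7 360 (chunkAt E id R 8 7559 C) 3 = true := by decide +kernel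

end CfsgLib.Coset.O73.Top
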