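import Cfsg.Agent.Coset.O73.Data
import Cfsg.Agent.Coset.O73.TopData
import Cfsg.Agent.Coset.Table
import Cfsg.Agent.Coset.O73.TopRels0
import Cfsg.Agent.Coset.O73.TopRels1
import Cfsg.Agent.Coset.O73.TopSteps0
import Mathlib.Tactic.IntervalCases

set_option autoImplicit false
set_option maxRecDepth 100000
set_option Elab.async false

namespace CfsgLib.Coset.O73.Top

theorem hR : checkRules rels subs R = true := by decide +kernel
theorem hdefs : checkDefs E 8 13 7559 = true := by decide +kernel
theorem hsteps : checkChunks E id R 8 (7 + 2) 7559 360 C = true :=
  checkChunks_of_blocks (by decide +kernel) fun b hb => by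
    have : b < 4 := hb
    interval_cases b
    · exact hsteps0
    · exact hsteps1
    · exact hsteps2
    · exact hsteps3
theorem htable : checkTable E id (7559 + chunk * 360) 3159 8 12 3 Rep Ref Tb = true := by decide +kernel
theorem hperm : checkPerm id 3159 8 12 3 Tb = true := by decide +kernel
theorem hrels : checkRels 3159 (9 + 3) Tb rels = true :=
  checkRels_of_blocks (by decide +kernel) fun b hb => by
    have : b < 8 := hb
    interval_cases b
    · exact hrels0
    · exact hrels1
    · exact hrels2
    · exact hrels3
    · exact hrels4
    · exact hrels5
    · exact hrels6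
    · exact hrels7
theorem htrans : checkTrans 3159 8 12 Tb Par = true := by decide +kernel

end CfsgLib.Coset.O73.Top
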